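import Groth.Prelude.Def_AlgSpRep
import Mathlib.CategoryTheory.Filtered.Final
import Mathlib.CategoryTheory.Limits.Types.Filtered
import Mathlib.CategoryTheory.Limits.Types.Pullbacks

/-!
# Relatively limit preserving transformations, in terms of stages of a system
-/

set_option autoImplicit false
set_option backward.isDefEq.respectTransparency false
set_option backward.isDefEq.respectTransparency.types false

universe u

open CategoryTheory CategoryTheory.Limits AlgebraicGeometry Opposite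

namespace Groth.Agent.Lib.AlgSpRelLP

open AlgSp (PSp IsRelLimitPreserving IsLimitPreserving fiberFun overHom)

variable {S : Scheme.{u}}

/-- Restriction of a section along a morphism. -/
abbrev rs (F : PSp S) {A B : Over S} (f : A ⟶ B) (x : F.obj (op B)) : F.obj (op A) := F.map f.op x

/-- A transformation of presheaves at a scheme. -/
abbrev ap {F G : PSp S} (a : F ⟶ G) {A : Over S} (x : F.obj (op A)) : G.obj (op A) := a.app (op A) x

theorem rs_rs (F : PSp S) {A B C : Over S} (g : A ⟶ B) (f : B ⟶ C) (x : F.obj (op C)) :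
    rs F g (rs F f x) = rs F (g ≫ f) x := by simp [rs]

theorem rs_id (F : PSp S) {A : Over S} (x : F.obj (op A)) : rs F (𝟙 A) x = x := by simp [rs]

theorem ap_rs {F G : PSp S} (a : F ⟶ G) {A B : Over S} (f : A ⟶ B) (x : F.obj (op B)) :
    ap a (rs F f x) = rs G f (ap a x) := NatTrans.naturality_apply a f.op x

theorem ap_comp {F G H : PSp S} (a : F ⟶ G) (b : G ⟶ H) {A : Over S} (x : F.obj (op A)) :
    ap (a ≫ b) x = ap b (ap a x) := rfl

/-- The projection of a cone, with its source written as the vertex. -/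
abbrev pr {I : Type u} [SmallCategory I] {D : I ⥤ Over S} (c : Cone D) (i : I) : c.pt ⟶ D.obj i :=
  c.π.app i

theorem pr_w {I : Type u} [SmallCategory I] {D : I ⥤ Over S} (c : Cone D) {i j : I} (v : j ⟶ i) :
    pr c j ≫ D.map v = pr c i := c.w v

/-- Sections over the limit of an affine system lying over a section at some stage come from a
stage, uniquely up to enlarging the stage. -/
def Stage {F G : PSp S} (a : F ⟶ G) : Prop :=
  ∀ ⦃I : Type u⦄ [SmallCategory I] [IsCofiltered I] (D : I ⥤ Over S) (c : Cone D),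
    IsLimit ((Over.forget S).mapCone c) → (∀ i, IsAffine (D.obj i).left) → IsAffine c.pt.left →
      (∀ (i : I) (y : G.obj (op (D.obj i))) (x : F.obj (op c.pt)),
        ap a x = rs G (pr c i) y →
        ∃ (j : I) (v : j ⟶ i) (x' : F.obj (op (D.obj j))),
          ap a x' = rs G (D.map v) y ∧ rs F (pr c j) x' = x) ∧
      ∀ (i : I) (x₁ x₂ : F.obj (op (D.obj i))), ap a x₁ = ap a x₂ →
        rs F (pr c i) x₁ = rs F (pr c i) x₂ →
        ∃ (j : I) (v : j ⟶ i), rs F (D.map v) x₁ = rs F (D.map v) x₂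

theorem stage_of_rel {F G : PSp S} {a : F ⟶ G} (h : IsRelLimitPreserving a) : Stage a := by
  intro I _ _ D c hc hD hT
  have main : ∀ (i : I) (y : G.obj (op (D.obj i))),
      (∀ (x : F.obj (op c.pt)), ap a x = rs G (pr c i) y →
        ∃ (j : I) (v : j ⟶ i) (x' : F.obj (op (D.obj j))),
          ap a x' = rs G (D.map v) y ∧ rs F (pr c j) x' = x) ∧
      ∀ (x₁ x₂ : F.obj (op (D.obj i))), ap a x₁ = y → ap a x₂ = y →
        rs F (pr c i) x₁ = rs F (pr c i) x₂ →
        ∃ (j : I) (v : j ⟶ i), rs F (D.map v) x₁ = rs F (D.map v) x₂ := by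
    intro i y
    let D' : Over i ⥤ Over (D.obj i).left :=
      { obj := fun k ↦ Over.mk (D.map k.hom).left
        map := fun {k l} g ↦ Over.homMk (D.map g.left).left (by
          change (D.map g.left).left ≫ (D.map l.hom).left = (D.map k.hom).left
          rw [← Over.comp_left, ← D.map_comp, Over.w]) }
    let c' : Cone D' :=
      { pt := Over.mk (c.π.app i).left
        π :=
          { app := fun k ↦ Over.homMk (c.π.app k.left).left (by
              change (c.π.app k.left).left ≫ (D.map k.hom).left = (c.π.app i).left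
              rw [← Over.comp_left, c.w])
            naturality := fun k l g ↦ by
              ext
              change 𝟙 _ ≫ (c.π.app l.left).left = (c.π.app k.left).left ≫ (D.map g.left).left
              rw [← Over.comp_left, c.w, Category.id_comp] } }
    have hc' : IsLimit ((Over.forget (D.obj i).left).mapCone c') :=
      (Functor.Initial.isLimitWhiskerEquiv (Over.forget i) ((Over.forget S).mapCone c)).symm hc
    obtain ⟨hcol⟩ := h (D.obj i) y D' c' hc' (fun k ↦ hD k.left) hT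
    let e : ∀ k : Over i, (Over.map (D.obj i).hom).obj (D'.obj k) ≅ D.obj k.left :=
      fun k ↦ Over.isoMk (Iso.refl _) (by simp [D'])
    let e₀ : (Over.map (D.obj i).hom).obj c'.pt ≅ c.pt := Over.isoMk (Iso.refl _) (by simp [c'])
    have ho : ∀ k : Over i, (e k).hom ≫ D.map k.hom = overHom (D.obj i) (D'.obj k) :=
      fun k ↦ by ext; simp [e, D']
    have ho₀ : e₀.hom ≫ pr c i = overHom (D.obj i) c'.pt := by ext; simp [e₀, c', pr]
    have hπ : ∀ k : Over i, (Over.map (D.obj i).hom).map (c'.π.app k) ≫ (e k).hom =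
        e₀.hom ≫ pr c k.left := fun k ↦ by ext; simp [e, e₀, c', pr]
    constructor
    · intro x hx
      obtain ⟨⟨k⟩, x', hx'⟩ := Types.jointly_surjective _ hcol
        ⟨rs F e₀.hom x, show ap a (rs F e₀.hom x) = rs G (overHom (D.obj i) c'.pt) y by
          rw [ap_rs, hx, rs_rs, ho₀]⟩
      obtain ⟨z, hz⟩ := x'
      replace hz : ap a z = rs G (overHom (D.obj i) (D'.obj k)) y := hz
      have h₁ : rs F ((Over.map (D.obj i).hom).map (c'.π.app k)) z = rs F e₀.hom x :=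
        congrArg Subtype.val hx'
      refine ⟨k.left, k.hom, rs F (e k).inv z, ?_, ?_⟩
      · rw [ap_rs]
        refine (congrArg (rs G (e k).inv) hz).trans ?_
        rw [rs_rs, ← ho, Iso.inv_hom_id_assoc]
      · have h₂ := congrArg (rs F e₀.inv) h₁
        rw [rs_rs, rs_rs, Iso.inv_hom_id, rs_id] at h₂
        rw [← h₂, rs_rs]
        congr 1
    · intro x₁ x₂ h₁ h₂ h₁₂
      let k₀ : Over i := Over.mk (𝟙 i)
      have key : ∀ x : F.obj (op (D.obj i)), ap a x = y → ap a (rs F (e k₀).hom x) =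
          rs G (overHom (D.obj i) (D'.obj k₀)) y := fun x hx ↦ by
        change ap a (rs F (B := D.obj i) (e k₀).hom x) = _
        rw [ap_rs, hx, ← ho]
        congr 1
        simp [k₀]
      obtain ⟨⟨k⟩, g, hg⟩ := (Types.FilteredColimit.isColimit_eq_iff' hcol
        (i := op k₀) ⟨_, key x₁ h₁⟩ ⟨_, key x₂ h₂⟩).1 (by
          refine Subtype.ext ?_
          change rs F ((Over.map _).map (c'.π.app k₀)) (rs F (e k₀).hom x₁) =
            rs F ((Over.map _).map (c'.π.app k₀)) (rs F (e k₀).hom x₂)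
          rw [rs_rs, rs_rs, hπ]
          change rs F (e₀.hom ≫ pr c i) x₁ = rs F (e₀.hom ≫ pr c i) x₂
          rw [← rs_rs, ← rs_rs, h₁₂])
      have hg' : rs F ((Over.map (D.obj i).hom).map (D'.map g.unop)) (rs F (e k₀).hom x₁) =
          rs F ((Over.map (D.obj i).hom).map (D'.map g.unop)) (rs F (e k₀).hom x₂) :=
        congrArg Subtype.val hg
      refine ⟨k.left, g.unop.left, ?_⟩
      have hh := congrArg (rs F (e k).inv) hg'
      rw [rs_rs, rs_rs, rs_rs, rs_rs] at hh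
      have h' : ((e k).inv ≫ (Over.map (D.obj i).hom).map (D'.map g.unop)) ≫ (e k₀).hom =
          D.map g.unop.left := by
        ext
        simp [e, D']
      rw [h'] at hh
      exact hh
  exact ⟨fun i y x hx ↦ (main i y).1 x hx, fun i x₁ x₂ hx h₁₂ ↦
    (main i (ap a x₁)).2 x₁ x₂ rfl hx.symm h₁₂⟩

theorem rel_of_stage {F G : PSp S} {a : F ⟶ G} (h : Stage a) : IsRelLimitPreserving a := by
  intro T y I _ _ D c hc hD hT
  obtain ⟨hs, hi⟩ := h (D ⋙ Over.map T.hom) ((Over.map T.hom).mapCone c) hc hD hT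
  refine ⟨Types.FilteredColimit.isColimitOf' _ _ (fun x ↦ ?_) fun i x₁ x₂ h₁₂ ↦ ?_⟩
  · obtain ⟨i⟩ := IsCofiltered.nonempty (C := I)
    obtain ⟨z, hz⟩ := x
    replace hz : ap a z = rs G (overHom T c.pt) y := hz
    obtain ⟨j, v, x', hx', hx⟩ := hs i (rs G (overHom T (D.obj i)) y) z (by
      rw [rs_rs]
      exact hz.trans (congrArg (rs G · y) (AlgSp.map_comp_overHom T (c.π.app i)).symm))
    refine ⟨op j, ⟨x', hx'.trans ?_⟩, Subtype.ext hx.symm⟩
    rw [rs_rs]
    exact congrArg (rs G · y) (AlgSp.map_comp_overHom T (D.map v))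
  · obtain ⟨j, v, hv⟩ := hi i.unop x₁.1 x₂.1 (x₁.2.trans x₂.2.symm) (congrArg Subtype.val h₁₂)
    exact ⟨op j, v.op, Subtype.ext hv⟩

theorem rel_iff_stage {F G : PSp S} {a : F ⟶ G} : IsRelLimitPreserving a ↔ Stage a :=
  ⟨stage_of_rel, rel_of_stage⟩

theorem Stage.comp {F G H : PSp S} {a : F ⟶ G} {b : G ⟶ H} (ha : Stage a) (hb : Stage b) :
    Stage (a ≫ b) := by
  intro I _ _ D c hc hD hT
  obtain ⟨has, hai⟩ := ha D c hc hD hT
  obtain ⟨hbs, hbi⟩ := hb D c hc hD hT
  refine ⟨fun i z x hx ↦ ?_, fun i x₁ x₂ hx h₁₂ ↦ ?_⟩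
  · obtain ⟨j, v, y, hy, hy'⟩ := hbs i z (ap a x) hx
    obtain ⟨k, w, x', hx', hx''⟩ := has j y x hy'.symm
    refine ⟨k, w ≫ v, x', ?_, hx''⟩
    rw [ap_comp, hx', ap_rs, hy, rs_rs, D.map_comp]
  · obtain ⟨j, v, hv⟩ := hbi i (ap a x₁) (ap a x₂) hx (by rw [← ap_rs, ← ap_rs, h₁₂])
    obtain ⟨k, w, hw⟩ := hai j (rs F (D.map v) x₁) (rs F (D.map v) x₂)
      (by rw [ap_rs, ap_rs, hv])
      (by rw [rs_rs, rs_rs, pr_w, h₁₂])
    exact ⟨k, w ≫ v, by simpa only [rs_rs, ← D.map_comp] using hw⟩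

theorem Stage.of_comp {F G H : PSp S} {a : F ⟶ G} {b : G ⟶ H} (hab : Stage (a ≫ b)) (hb : Stage b) :
    Stage a := by
  intro I _ _ D c hc hD hT
  obtain ⟨has, hai⟩ := hab D c hc hD hT
  obtain ⟨-, hbi⟩ := hb D c hc hD hT
  refine ⟨fun i y x hx ↦ ?_, fun i x₁ x₂ hx h₁₂ ↦ ?_⟩
  · obtain ⟨j, v, x', hx', hx''⟩ := has i (ap b y) x (by rw [ap_comp, hx, ap_rs])
    rw [ap_comp, ← ap_rs] at hx'
    obtain ⟨k, w, hw⟩ := hbi j _ _ hx' (by
      rw [← ap_rs, hx'', hx, rs_rs, pr_w])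
    refine ⟨k, w ≫ v, rs F (D.map w) x', ?_, ?_⟩
    · rw [ap_rs, hw, rs_rs, D.map_comp]
    · rw [rs_rs, pr_w, hx'']
  · exact hai i x₁ x₂ (by rw [ap_comp, ap_comp, hx]) h₁₂

theorem Stage.baseChange {F G H P : PSp S} {a : F ⟶ G} {b : H ⟶ G} {fst : P ⟶ F} {snd : P ⟶ H}
    (hP : IsPullback fst snd a b) (hb : Stage b) : Stage fst := by
  intro I _ _ D c hc hD hT
  obtain ⟨hbs, hbi⟩ := hb D c hc hD hT
  have hp := fun T : (Over S)ᵒᵖ ↦ (Types.isPullback_iff _ _ _ _).1 (hP.map ((evaluation _ _).obj T))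
  have hw : ∀ {T : Over S} (p : P.obj (op T)), ap a (ap fst p) = ap b (ap snd p) :=
    fun p ↦ ConcreteCategory.congr_hom (hp _).1 p
  have hext : ∀ {T : Over S} (p q : P.obj (op T)), ap fst p = ap fst q → ap snd p = ap snd q →
      p = q := fun p q h₁ h₂ ↦ (hp _).2.1 p q ⟨h₁, h₂⟩
  refine ⟨fun i f p hf ↦ ?_, fun i p₁ p₂ hp₁ h₁₂ ↦ ?_⟩
  · obtain ⟨j, v, h, hh, hh'⟩ := hbs i (ap a f) (ap snd p) (by rw [← hw, hf, ap_rs])
    obtain ⟨p', hpf, hps⟩ := (hp _).2.2 (rs F (D.map v) f) h ((ap_rs a _ f).trans hh.symm)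
    replace hpf : ap fst p' = rs F (D.map v) f := hpf
    replace hps : ap snd p' = h := hps
    refine ⟨j, v, p', hpf, hext _ _ ?_ ?_⟩
    · rw [ap_rs, hpf, hf, rs_rs, pr_w]
    · rw [ap_rs, hps, hh']
  · obtain ⟨j, v, hv⟩ := hbi i (ap snd p₁) (ap snd p₂) (by rw [← hw, ← hw, hp₁])
      (by rw [← ap_rs, ← ap_rs, h₁₂])
    refine ⟨j, v, hext _ _ ?_ ?_⟩
    · rw [ap_rs, ap_rs, hp₁]
    · rw [ap_rs, ap_rs, hv]

end Groth.Agent.Lib.AlgSpRelLP

namespace Groth.Agent.Lib.AlgSpRelLP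

open AlgSp (PSp IsRelLimitPreserving)

variable {S : Scheme.{u}}

theorem rel_iff_isPullback {F G : PSp S} (a : F ⟶ G) :
    IsRelLimitPreserving a ↔
      ∀ ⦃I : Type u⦄ [SmallCategory I] [IsCofiltered I] (D : I ⥤ Over S) (c : Cone D),
        IsLimit ((Over.forget S).mapCone c) → (∀ i, IsAffine (D.obj i).left) → IsAffine c.pt.left →
          IsPullback (colimMap (Functor.whiskerLeft D.op a))
            (colimit.desc (D.op ⋙ F) (F.mapCocone c.op))
            (colimit.desc (D.op ⋙ G) (G.mapCocone c.op)) (a.app (Opposite.op c.pt)) := by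
  rw [rel_iff_stage]
  refine forall_congr' fun I ↦ forall_congr' fun _ ↦ forall_congr' fun _ ↦ forall_congr' fun D ↦
    forall_congr' fun c ↦ forall_congr' fun _ ↦ forall_congr' fun _ ↦ forall_congr' fun _ ↦ ?_
  rw [Types.isPullback_iff]
  have h1 : ∀ i (x : F.obj (op (D.obj i))), colimMap (Functor.whiskerLeft D.op a)
      (colimit.ι (D.op ⋙ F) (op i) x) = colimit.ι (D.op ⋙ G) (op i) (ap a x) :=
    fun i x ↦ ConcreteCategory.congr_hom (ι_colimMap (Functor.whiskerLeft D.op a) (op i)) x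
  have h2 : ∀ (H : PSp S) i (x : H.obj (op (D.obj i))), colimit.desc (D.op ⋙ H)
      (H.mapCocone c.op) (colimit.ι (D.op ⋙ H) (op i) x) = rs H (pr c i) x :=
    fun H i x ↦ ConcreteCategory.congr_hom (colimit.ι_desc (H.mapCocone c.op) (op i)) x
  have hw : ∀ (H : PSp S) {i j} (v : j ⟶ i) (x : H.obj (op (D.obj i))),
      colimit.ι (D.op ⋙ H) (op j) (rs H (D.map v) x) = colimit.ι (D.op ⋙ H) (op i) x :=
    fun H i j v x ↦ ConcreteCategory.congr_hom (colimit.w (D.op ⋙ H) v.op) x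
  constructor
  · rintro ⟨hs, hi⟩
    refine ⟨?_, fun X Y ⟨hXY, hXY'⟩ ↦ ?_, fun Z x hx ↦ ?_⟩
    · refine colimit.hom_ext fun ⟨i⟩ ↦ ConcreteCategory.hom_ext _ _ fun x ↦ ?_
      simp only [ConcreteCategory.comp_apply]
      rw [h1, h2, h2]
      exact (ap_rs a _ x).symm
    · obtain ⟨⟨i⟩, x, rfl⟩ := Types.jointly_surjective' X
      obtain ⟨⟨j⟩, y, rfl⟩ := Types.jointly_surjective' Y
      rw [h1, h1] at hXY
      rw [h2, h2] at hXY'
      obtain ⟨⟨k⟩, u, v, huv⟩ := (Types.FilteredColimit.colimit_eq_iff _).1 hXY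
      replace huv : rs G (D.map u.unop) (ap a x) = rs G (D.map v.unop) (ap a y) := huv
      obtain ⟨l, w, hwl⟩ := hi k (rs F (D.map u.unop) x) (rs F (D.map v.unop) y)
        (by rw [ap_rs, ap_rs, huv]) (by rw [rs_rs, rs_rs, pr_w, pr_w, hXY'])
      rw [← hw F (w ≫ u.unop) x, ← hw F (w ≫ v.unop) y, D.map_comp, D.map_comp, ← rs_rs, ← rs_rs,
        hwl]
    · obtain ⟨⟨i⟩, y, rfl⟩ := Types.jointly_surjective' Z
      rw [h2] at hx
      obtain ⟨j, v, x', hx', hx''⟩ := hs i y x hx.symm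
      exact ⟨colimit.ι (D.op ⋙ F) (op j) x', by rw [h1, hx', hw], by rw [h2, hx'']⟩
  · rintro ⟨-, hinj, hsurj⟩
    refine ⟨fun i y x hx ↦ ?_, fun i x₁ x₂ hx h₁₂ ↦ ?_⟩
    · obtain ⟨Z, hZ, hZ'⟩ := hsurj (colimit.ι (D.op ⋙ G) (op i) y) x (by rw [h2]; exact hx.symm)
      obtain ⟨⟨j⟩, z, rfl⟩ := Types.jointly_surjective' Z
      rw [h1] at hZ
      rw [h2] at hZ'
      obtain ⟨⟨k⟩, u, v, huv⟩ := (Types.FilteredColimit.colimit_eq_iff _).1 hZ
      replace huv : rs G (D.map u.unop) (ap a z) = rs G (D.map v.unop) y := huv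
      exact ⟨k, v.unop, rs F (D.map u.unop) z, by rw [ap_rs, huv], by rw [rs_rs, pr_w, hZ']⟩
    · obtain ⟨⟨k⟩, u, v, huv⟩ := (Types.FilteredColimit.colimit_eq_iff _).1
        (hinj (colimit.ι (D.op ⋙ F) (op i) x₁) (colimit.ι (D.op ⋙ F) (op i) x₂)
          ⟨by rw [h1, h1, hx], by rw [h2, h2, h₁₂]⟩)
      refine ⟨IsCofiltered.eq u.unop v.unop, IsCofiltered.eqHom u.unop v.unop ≫ u.unop, ?_⟩
      replace huv : rs F (D.map u.unop) x₁ = rs F (D.map v.unop) x₂ := huv
      conv_rhs => rw [IsCofiltered.eq_condition]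
      rw [D.map_comp, D.map_comp, ← rs_rs, ← rs_rs, huv]

end Groth.Agent.Lib.AlgSpRelLP
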